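import Cfsg.Agent.ChevTori.Cert
import Cfsg.Agent.Chevalley.Weights.E8

/-!
A Weyl word of order twelve whose twisted torus over the field of three elements has two independent points of
order seventy-three.
-/

set_option autoImplicit false
set_option maxRecDepth 100000

namespace CfsgLib.E8PSLThree56

open Cfsg.Lie CfsgLib.Chevalley CfsgLib.ChevTori

/-- The word. -/
def word73 : List (Fin chevE8.rank) := [⟨6, by decide⟩, ⟨5, by decide⟩, ⟨1, by decide⟩, ⟨4, by decide⟩, ⟨3, by decide⟩, ⟨7, by decide⟩, ⟨2, by decide⟩, ⟨0, by decide⟩, ⟨1, by decide⟩, ⟨3, by decide⟩, ⟨6, by decide⟩, ⟨5, by decide⟩, ⟨1, by decide⟩, ⟨4, by decide⟩, ⟨3, by decide⟩, ⟨7, by decide⟩, ⟨2, by decide⟩, ⟨0, by decide⟩, ⟨1, by decide⟩, ⟨3, by decide⟩]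

/-- The matrix of the word. -/
def mat73 : Matrix (Fin chevE8.rank) (Fin chevE8.rank) ℤ := ofRows chevE8.rank [[0, 1, 0, -1, 1, 0, 0, 0], [0, 0, 0, -1, 1, 1, 0, 0], [-1, 1, 0, -1, 1, 1, 0, 0], [-1, 1, 1, -2, 1, 2, 0, 0], [-1, 1, 1, -2, 1, 1, 1, 0], [-1, 1, 1, -2, 1, 1, 1, -1], [-1, 1, 1, -2, 1, 1, 0, 0], [-1, 0, 1, -1, 1, 0, 0, 0]]

theorem mat73_eq : mat73 = wMat chevE8 word73 := by decide +kernel

/-- A point of order seventy-three of the twisted torus. -/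
def base1 (j : Fin chevE8.rank) : ℕ := ([1, 58, 10, 13, 4, 4, 1, 0] : List ℕ).getD j.val 0

/-- A second point. -/
def base2 (j : Fin chevE8.rank) : ℕ := ([8, 18, 48, 64, 0, 70, 0, 1] : List ℕ).getD j.val 0

theorem base_fixed : ∀ k : Fin chevE8.rank,
    (∑ j, 3 * (mat73 k j : ZMod 73) * (base1 j : ZMod 73)) = (base1 k : ZMod 73) ∧
      (∑ j, 3 * (mat73 k j : ZMod 73) * (base2 j : ZMod 73)) = (base2 k : ZMod 73) := by
  decide +kernel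

/-- The exponents of the first point on the roots. -/
def rexp1 : List ℕ := [0, 72, 70, 0, 64, 18, 24, 48, 54, 8, 72, 2, 0, 72, 16, 46, 0, 64, 67, 65, 64, 6, 70, 0, 71, 70, 24, 27, 25, 24, 18, 16, 15, 19, 18, 16, 54, 57, 55, 54, 48, 46, 45, 49, 48, 46, 2, 0, 72, 3, 2, 0, 67, 66, 64, 67, 8, 6, 5, 9, 8, 6, 0, 72, 70, 0, 27, 26, 24, 27, 18, 57, 56, 54, 57, 48, 2, 8, 0, 71, 70, 1, 0, 71, 65, 64, 62, 65, 19, 18, 16, 19, 10, 25, 24, 22, 25, 16, 43, 49, 48, 46, 49, 40, 67, 55, 54, 52, 55, 46, 9, 8, 6, 9, 0, 72, 70, 3, 2, 1, 72, 71, 70, 3, 1, 0, 64, 67, 65, 64, 27, 18, 21, 19, 18, 6, 33, 24, 27, 25, 24, 30, 57, 48, 51, 49, 48, 63, 54, 57, 55, 54, 8, 11, 9, 8, 2, 0, 72, 3, 2, 0, 65, 71, 25, 16, 19, 17, 16, 55, 46, 49, 47, 46, 0, 3, 1, 0, 67, 65, 64, 68, 67, 65, 6, 9, 7, 6, 0, 71, 70, 1, 0, 71, 27, 25, 24, 28, 27, 25, 19, 18, 16, 19, 57, 55, 54, 58, 57, 55, 49,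 48, 46, 49, 3, 2, 0, 3, 67, 9, 8, 6, 9, 0, 27, 57, 1, 0, 71, 1, 65, 19, 25, 49, 55, 9, 0, 3, 1, 0]

/-- The exponents of the second point on the roots. -/
def rexp2 : List ℕ := [72, 1, 3, 70, 9, 71, 22, 43, 67, 56, 68, 62, 64, 66, 63, 35, 24, 36, 30, 32, 34, 48, 60, 54, 56, 58, 49, 43, 45, 47, 55, 57, 59, 51, 53, 55, 21, 15, 17, 19, 27, 29, 31, 23, 25, 27, 16, 18, 20, 12, 14, 16, 24, 26, 28, 22, 40, 42, 44, 36, 38, 40, 48, 50, 52, 46, 37, 39, 41, 35, 47, 9, 11, 13, 7, 19, 8, 32, 8, 10, 12, 4, 6, 8, 16, 18, 20, 14, 5, 7, 9, 3, 15, 29, 31, 33, 27, 39, 28, 50, 52, 54, 48, 60, 49, 1, 3, 5, 72, 11, 63, 65, 67, 61, 2, 4, 6, 69, 71, 71, 2, 2, 4, 67, 69, 71, 12, 6, 8, 10, 62, 1, 68, 70, 72, 24, 13, 25, 19, 21, 23, 45, 34, 46, 40, 42, 44, 58, 70, 64, 66, 68, 59, 53, 55, 57, 65, 67, 69, 61, 63, 65, 41, 65, 54, 66, 60, 62, 64, 26, 38, 32, 34, 36, 27, 21, 23, 25, 33,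 35, 37, 29, 31, 33, 51, 45, 47, 49, 57, 59, 61, 53, 55, 57, 46, 48, 50, 42, 44, 46, 54, 56, 58, 52, 18, 20, 22, 14, 16, 18, 26, 28, 30, 24, 15, 17, 19, 13, 25, 39, 41, 43, 37, 49, 38, 10, 7, 9, 11, 5, 17, 6, 30, 51, 2, 64, 3, 70, 72, 1]

theorem rexp_eq : ∀ r : Fin chevE8.nroots,
    (∑ j : Fin chevE8.rank, (chevE8.cartan j r : ZMod 73) * (base1 j : ZMod 73)) = (rexp1.getD r.val 0 : ZMod 73) ∧
      (∑ j : Fin chevE8.rank, (chevE8.cartan j r : ZMod 73) * (base2 j : ZMod 73)) = (rexp2.getD r.val 0 : ZMod 73) := by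
  decide +kernel

/-- The order of the group over the field of three elements without the power of three. -/
def orderR : ℕ := 10478544788446993712433214390526247496988190577221487820800000

theorem orderR_eq : ((3 : ℤ) - 1) ^ 8 * sysE8.lenSum (List.range 8) 3 = (orderR : ℤ) := by
  rw [lenSumE8 ℚ 3]
  decide +kernel

theorem orderR_dvd : ¬ 73 ^ 3 ∣ 3 ^ 120 * orderR := by decide +kernel

end CfsgLib.E8PSLThree56
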