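import Cfsg.Agent.E8PSLThree56.Counting
import Cfsg.Agent.E8PSLThree56.Word

/-!
Data: orbits of labels, columns of eigenvalue counts, profiles and certificates.
-/

set_option autoImplicit false
set_option maxRecDepth 100000

namespace CfsgLib.E8PSLThree56

/-- The orbits of even labels of dimension at most 248 for the exponent six. -/
def orbs6 : List (ℕ × List ℕ) :=
  [(0, [0]),
    (486, [486, 2, 6, 18, 54, 162]),
    (324, [324, 244, 4, 12, 36, 108]),
    (648, [648, 488, 8, 24, 72, 216]),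
    (270, [270, 82, 246, 10, 30, 90]),
    (594, [594, 326, 250, 22, 66, 198]),
    (432, [432, 568, 248, 16, 48, 144]),
    (540, [540, 164, 492, 20, 60, 180]),
    (378, [378, 406, 490, 14, 42, 126]),
    (702, [702, 650, 494, 26, 78, 234]),
    (252, [252, 28, 84]),
    (576, [576, 272, 88, 264, 64, 192]),
    (414, [414, 514, 86, 258, 46, 138]),
    (522, [522, 110, 330, 262, 58, 174]),
    (360, [360, 352, 328, 256, 40, 120]),
    (684, [684, 596, 332, 268, 76, 228]),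
    (306, [306, 190, 570, 254, 34, 102]),
    (630, [630, 434, 574, 266, 70, 210]),
    (468, [468, 676, 572, 260, 52, 156]),
    (504, [504, 56, 168]),
    (342, [342, 298, 166, 498, 38, 114]),
    (666, [666, 542, 170, 510, 74, 222]),
    (288, [288, 136, 408, 496, 32, 96]),
    (612, [612, 380, 412, 508, 68, 204]),
    (450, [450, 622, 410, 502, 50, 150]),
    (558, [558, 218, 654, 506, 62, 186]),
    (396, [396, 460, 652, 500, 44, 132]),
    (720, [720, 704, 656, 512, 80, 240]),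
    (516, [516, 92, 276, 100, 300, 172]),
    (354, [354, 334, 274, 94, 282, 118]),
    (678, [678, 578, 278, 106, 318, 226]),
    (624, [624, 416, 520, 104, 312, 208]),
    (462, [462, 658, 518, 98, 294, 154]),
    (336, [336, 280, 112]),
    (660, [660, 524, 116, 348, 316, 220]),
    (606, [606, 362, 358, 346, 310, 202]),
    (444, [444, 604, 356, 340, 292, 148]),
    (552, [552, 200, 600, 344, 304, 184]),
    (390, [390, 442, 598, 338, 286, 130]),
    (714, [714, 686, 602, 350, 322, 238]),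
    (588, [588, 308, 196]),
    (426, [426, 550, 194, 582, 290, 142]),
    (534, [534, 146, 438, 586, 302, 178]),
    (372, [372, 388, 436, 580, 284, 124]),
    (696, [696, 632, 440, 592, 320, 232]),
    (642, [642, 470, 682, 590, 314, 214]),
    (480, [480, 712, 680, 584, 296, 160]),
    (546, [546, 182]),
    (384, [384, 424, 544, 176, 528, 128]),
    (708, [708, 668, 548, 188, 564, 236]),
    (420, [420, 532, 140]),
    (366, [366, 370, 382, 418, 526, 122]),
    (690, [690, 614, 386, 430, 562, 230]),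
    (636, [636, 452, 628, 428, 556, 212]),
    (474, [474, 694, 626, 422, 538, 158]),
    (672, [672, 560, 224]),
    (618, [618, 398, 466, 670, 554, 206]),
    (456, [456, 640, 464, 664, 536, 152]),
    (402, [402, 478, 706, 662, 530, 134]),
    (726, [726, 722, 710, 674, 566, 242]),
    (364, [364]),
    (688, [688, 608, 368, 376, 400, 472]),
    (634, [634, 446, 610, 374, 394, 454]),
    (616, [616, 392, 448])]

/-- The orbits of even labels of dimension at most 248 for the exponent five. -/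
def orbs5 : List (ℕ × List ℕ) :=
  [(0, [0]),
    (162, [162, 2, 6, 18, 54]),
    (108, [108, 82, 4, 12, 36]),
    (216, [216, 164, 8, 24, 72]),
    (90, [90, 28, 84, 10, 30]),
    (198, [198, 110, 88, 22, 66]),
    (144, [144, 190, 86, 16, 48]),
    (180, [180, 56, 168, 20, 60]),
    (126, [126, 136, 166, 14, 42]),
    (234, [234, 218, 170, 26, 78]),
    (192, [192, 92, 34, 102, 64]),
    (138, [138, 172, 32, 96, 46]),
    (174, [174, 38, 114, 100, 58]),
    (120, [120, 118, 112, 94, 40]),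
    (228, [228, 200, 116, 106, 76]),
    (210, [210, 146, 196, 104, 70]),
    (156, [156, 226, 194, 98, 52]),
    (222, [222, 182, 62, 186, 74]),
    (204, [204, 128, 142, 184, 68]),
    (150, [150, 208, 140, 178, 50]),
    (132, [132, 154, 220, 176, 44]),
    (240, [240, 236, 224, 188, 80]),
    (202, [202, 122, 124, 130, 148]),
    (238, [238, 230, 206, 134, 160]),
    (232, [232, 212, 152, 214, 158]),
    (242, [242])]

/-- The residues representing the classes modulo seventy-three. -/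
def reps73 : List ℕ := [0, 1, 2, 4, 5, 7, 13]

/-- The counts in the two classes modulo four and in the classes modulo seventy-three. -/
def rowCount (i : ℕ) (a : List ℕ) : ℕ :=
  if i < 2 then resCount 4 (2 * i) a else resCount 73 (reps73.getD (i - 2) 0) a

/-- The digits of a number. -/
def digitsL (n x : ℕ) : List ℕ := (List.range n).map fun i => x / 3 ^ i % 3

/-- The columns. -/
def cols6 : List (List ℤ) :=
  [[1, 0, 1, 0, 0, 0, 0, 0, 0],
    [6, 12, 6, 0, 1, 0, 0, 0, 0],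
    [12, 12, 0, 0, 1, 1, 0, 0, 0],
    [30, 24, 6, 1, 2, 1, 0, 0, 0],
    [12, 12, 0, 1, 0, 0, 0, 1, 0],
    [36, 36, 0, 0, 2, 1, 0, 1, 2],
    [36, 36, 0, 1, 2, 1, 0, 1, 1],
    [30, 24, 6, 0, 3, 0, 0, 0, 1],
    [36, 36, 0, 1, 1, 2, 0, 1, 1],
    [78, 84, 6, 2, 4, 2, 1, 2, 2],
    [6, 6, 0, 0, 0, 0, 1, 0, 0],
    [36, 36, 0, 3, 0, 0, 1, 1, 1],
    [36, 36, 0, 2, 0, 0, 2, 1, 1],
    [36, 36, 0, 0, 1, 2, 1, 2, 0],
    [48, 48, 0, 0, 1, 2, 1, 1, 3],
    [108, 108, 0, 3, 2, 4, 3, 3, 3],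
    [36, 36, 0, 0, 0, 1, 2, 1, 2],
    [108, 108, 0, 4, 2, 3, 4, 3, 2],
    [108, 108, 0, 2, 2, 4, 3, 3, 4],
    [15, 12, 3, 0, 1, 0, 0, 1, 0],
    [36, 36, 0, 0, 2, 2, 0, 0, 2],
    [78, 84, 6, 3, 4, 2, 0, 2, 2],
    [36, 36, 0, 1, 0, 1, 2, 2, 0],
    [108, 108, 0, 3, 2, 3, 4, 2, 4],
    [108, 108, 0, 3, 2, 4, 3, 3, 3],
    [78, 84, 6, 2, 4, 2, 2, 2, 1],
    [108, 108, 0, 1, 2, 4, 3, 3, 5],
    [246, 240, 6, 8, 6, 6, 7, 7, 6],
    [36, 36, 0, 3, 1, 0, 1, 1, 0],
    [48, 48, 0, 3, 1, 0, 2, 1, 1],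
    [108, 108, 0, 6, 2, 0, 5, 3, 2],
    [108, 108, 0, 4, 1, 1, 5, 3, 4],
    [108, 108, 0, 6, 2, 1, 4, 4, 1],
    [24, 24, 0, 0, 0, 1, 1, 1, 1],
    [108, 108, 0, 2, 2, 4, 3, 3, 4],
    [144, 144, 12, 1, 7, 7, 1, 4, 3],
    [144, 144, 12, 4, 6, 3, 3, 3, 4],
    [108, 108, 12, 0, 5, 6, 0, 2, 4],
    [144, 144, 0, 4, 3, 4, 5, 4, 4],
    [324, 324, 12, 6, 11, 11, 7, 9, 9],
    [54, 54, 0, 0, 2, 3, 1, 1, 2],
    [108, 108, 0, 3, 3, 3, 3, 3, 3],
    [108, 108, 12, 3, 5, 3, 1, 2, 3],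
    [144, 144, 0, 5, 2, 3, 6, 5, 3],
    [324, 324, 12, 10, 8, 6, 11, 10, 8],
    [324, 324, 12, 5, 10, 12, 7, 9, 10],
    [324, 324, 12, 10, 9, 8, 9, 9, 8],
    [26, 28, 6, 0, 2, 1, 0, 0, 1],
    [108, 108, 0, 3, 3, 4, 2, 4, 2],
    [246, 240, 18, 5, 10, 8, 4, 6, 6],
    [54, 54, 0, 2, 1, 1, 2, 2, 1],
    [144, 144, 0, 4, 2, 3, 6, 3, 6],
    [324, 324, 0, 11, 5, 7, 12, 10, 9],
    [324, 324, 0, 9, 7, 9, 10, 10, 9],
    [324, 324, 0, 10, 7, 9, 10, 9, 9],
    [123, 120, 3, 5, 3, 3, 3, 3, 3],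
    [324, 324, 12, 4, 10, 11, 9, 8, 11],
    [324, 324, 12, 9, 10, 8, 9, 9, 8],
    [324, 324, 0, 9, 6, 9, 11, 9, 10],
    [726, 732, 18, 21, 19, 19, 21, 21, 19],
    [32, 32, 4, 1, 2, 1, 0, 1, 0],
    [432, 432, 24, 11, 16, 12, 9, 11, 11],
    [432, 432, 12, 15, 11, 9, 13, 12, 11],
    [216, 216, 0, 8, 4, 5, 7, 7, 5]]

/-- The possible values of the two counts of an involution and the counts of an element of order 73, with certificates. -/
def certs6 : List (List ℤ × Tree) :=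
  [([136, 112, 8, 2, 3, 4, 5, 4, 2], .farkas [-6, 7, 6, -6, -6, -6, -6, -6, -6]),
    ([120, 128, 8, 2, 3, 4, 5, 4, 2], .branch 22 (.cons (.branch 16 (.cons (.branch 12 (.cons (.branch 14 (.cons (.branch 15 (.cons (.branch 18 (.cons (.branch 24 (.cons (.branch 26 (.cons (.branch 31 (.cons (.branch 23 (.cons (.branch 13 (.cons (.farkas [1, -12, -1, 144, 144, -12, 66, -12, 222]) (.cons (.branch 11 (.cons (.farkas [4, -9, -4, -9, 108, -9, 30, 69, 30]) .nil)) (.cons (.farkas [-3, -3, 3, -3, 49, 62, 36, 192, -3]) .nil)))) .nil)) .nil)) .nil)) .nil)) .nil)) .nil)) .nil)) (.cons (.farkas [1, -12, -1, 66, 144, -12, 66, 105, 105]) .nil))) (.cons (.farkas [1, -12, -1, 27, 144, -12, 66, 105, 144]) .nil))) (.cons (.branch 14 (.cons (.branch 16 (.cons (.branch 18 (.cons (.branch 26 (.cons (.branch 23 (.cons (.branch 15 (.cons (.branch 24 (.cons (.branch 31 (.cons (.branch 13 (.cons (.branch 8 (.cons (.branch 17 (.cons (.branch 20 (.cons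 (.branch 11 (.cons (.branch 12 (.cons (.branch 29 (.cons (.branch 34 (.cons (.branch 40 (.cons (.branch 51 (.cons (.branch 58 (.cons (.farkas [40, -90, 25, 27, 690, -90, 300, 885, 105]) .nil)) .nil)) (.cons (.farkas [7, -6, -6, -6, 66, -6, -6, -6, -6]) .nil))) .nil)) .nil)) .nil)) .nil)) (.cons (.farkas [1, -12, -1, 144, 144, -12, 66, -12, 222]) .nil))) .nil)) (.cons (.farkas [31, -60, 73, 408, 96, 252, 174, -60, 330]) .nil))) (.cons (.farkas [-3, -3, 3, -3, 49, 62, 36, 192, -3]) .nil))) .nil)) .nil)) .nil)) .nil)) .nil)) .nil)) (.cons (.farkas [1, -12, -1, 27, 144, -12, 66, 105, 144]) .nil))) .nil)) (.cons (.farkas [4, -9, -4, 4, 108, -9, 30, 147, -9]) .nil)))),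
    ([136, 112, 8, 2, 5, 4, 2, 3, 4], .farkas [-6, 7, 6, -6, -6, -6, -6, -6, -6]),
    ([120, 128, 8, 2, 5, 4, 2, 3, 4], .branch 14 (.cons (.branch 15 (.cons (.branch 16 (.cons (.branch 18 (.cons (.branch 22 (.cons (.branch 23 (.cons (.branch 24 (.cons (.branch 26 (.cons (.branch 31 (.cons (.branch 13 (.cons (.branch 12 (.cons (.branch 11 (.cons (.branch 17 (.cons (.branch 20 (.cons (.branch 21 (.cons (.branch 29 (.cons (.branch 34 (.cons (.branch 38 (.cons (.branch 30 (.cons (.branch 51 (.cons (.branch 52 (.cons (.branch 54 (.cons (.branch 58 (.cons (.farkas [23, -42, 29, 36, 192, 114, 114, 270, -42]) .nil)) .nil)) .nil)) .nil)) .nil)) .nil)) .nil)) .nil)) .nil)) (.cons (.branch 8 (.cons (.branch 9 (.cons (.branch 21 (.cons (.branch 28 (.cons (.branch 29 (.cons (.branch 30 (.cons (.branch 32 (.cons (.branch 34 (.cons (.branch 38 (.cons (.branch 41 (.cons (.branch 43 (.cons (.branch 50 (.cons (.branch 51 (.cons (.branch 52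 (.cons (.branch 53 (.cons (.branch 54 (.cons (.branch 58 (.cons (.branch 63 (.cons (.farkas [142, -144, 131, -144, 90, 12, 12, 168, -144]) .nil)) .nil)) .nil)) .nil)) .nil)) .nil)) (.cons (.farkas [1, -12, -1, 144, 144, 66, 183, -12, 27]) .nil))) .nil)) .nil)) .nil)) .nil)) .nil)) .nil)) .nil)) .nil)) .nil)) .nil)) (.cons (.farkas [-8, -21, 8, 252, 252, 486, 174, 96, -21]) .nil))) (.cons (.farkas [1, -12, -1, 144, 144, 222, 66, -12, -12]) .nil)))) .nil)) .nil)) (.cons (.farkas [17, -48, 35, 420, 264, 108, 420, -48, 264]) .nil))) (.cons (.farkas [-77, -168, 77, 1548, 2016, 2562, 1782, 2562, -168]) .nil))) .nil)) .nil)) .nil)) .nil)) (.cons (.farkas [-11, -24, 11, 80, 288, 366, 678, 366, -24]) .nil))) .nil)) (.cons (.branch 8 (.cons (.branch 20 (.cons (.farkas [29, -36, 23, 42, 120, -36, 198, 42, 3]) (.cons (.farkas [-35, -48, 139, 264, -48, 1200, 1512, 732, 1512]) .nil))) (.cons (.farkas [1, -12, 25, 66, -12, 144, 144, 66,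 144]) .nil))) .nil))) .nil)) (.cons (.branch 9 (.cons (.branch 8 (.cons (.branch 11 (.cons (.branch 12 (.cons (.branch 15 (.cons (.branch 17 (.cons (.branch 20 (.cons (.branch 18 (.cons (.branch 21 (.cons (.branch 23 (.cons (.branch 24 (.cons (.branch 26 (.cons (.branch 28 (.cons (.branch 29 (.cons (.branch 30 (.cons (.branch 31 (.cons (.branch 32 (.cons (.branch 38 (.cons (.branch 41 (.cons (.branch 43 (.cons (.branch 50 (.cons (.branch 51 (.cons (.branch 52 (.cons (.branch 54 (.cons (.branch 58 (.cons (.branch 53 (.cons (.branch 63 (.cons (.farkas [181, -222, 209, -222, 324, 168, 246, 714, 168]) .nil)) .nil)) .nil)) .nil)) .nil)) .nil)) .nil)) .nil)) .nil)) .nil)) .nil)) .nil)) .nil)) .nil)) .nil)) .nil)) .nil)) .nil)) .nil)) .nil)) .nil)) .nil)) .nil)) .nil)) .nil)) (.cons (.farkas [-6, -6, 19, 85, -6, 150, 72, 111, 228]) .nil))) .nil)) .nil))),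
    ([136, 112, 8, 3, 3, 3, 3, 4, 4], .farkas [-6, 7, 6, -6, -6, -6, -6, -6, -6]),
    ([120, 128, 8, 3, 3, 3, 3, 4, 4], .branch 14 (.cons (.branch 15 (.cons (.branch 16 (.cons (.branch 26 (.cons (.branch 31 (.cons (.branch 12 (.cons (.branch 18 (.cons (.branch 23 (.cons (.branch 24 (.cons (.branch 22 (.cons (.branch 11 (.cons (.branch 51 (.cons (.farkas [-7, -72, 7, 318, 864, 630, 708, 630, -72]) .nil)) (.cons (.branch 13 (.cons (.farkas [17, -48, 35, 420, 264, 108, 420, -48, 264]) (.cons (.farkas [-5, -18, 5, 216, 216, 372, 138, 60, -18]) .nil))) .nil))) (.cons (.farkas [1, -12, -1, 66, 144, 66, 144, 66, -12]) .nil))) .nil)) .nil)) .nil)) (.cons (.farkas [45, -72, 7, 396, 552, 84, 708, -72, -72]) .nil))) .nil)) .nil)) (.cons (.branch 12 (.cons (.branch 18 (.cons (.branch 22 (.cons (.branch 23 (.cons (.branch 24 (.cons (.branch 26 (.cons (.branch 31 (.cons (.branch 11 (.cons (.branch 28 (.cons (.branch 17 (.cons (.branch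 29 (.cons (.branch 30 (.cons (.branch 34 (.cons (.branch 51 (.cons (.branch 52 (.cons (.branch 58 (.cons (.farkas [109, -216, 73, 18, 1500, 642, 876, 1266, -216]) .nil)) .nil)) .nil)) .nil)) .nil)) .nil)) .nil)) (.cons (.farkas [-7, -7, 7, 188, 240, 45, 305, -7, -7]) .nil))) (.cons (.farkas [17, -48, 35, 420, 264, 108, 732, -48, 264]) .nil))) .nil)) .nil)) .nil)) .nil)) .nil)) .nil)) .nil)) .nil))) .nil)) (.cons (.branch 13 (.cons (.branch 15 (.cons (.branch 16 (.cons (.branch 18 (.cons (.branch 22 (.cons (.branch 24 (.cons (.branch 26 (.cons (.branch 31 (.cons (.branch 23 (.cons (.branch 12 (.cons (.branch 11 (.cons (.branch 17 (.cons (.branch 28 (.cons (.branch 29 (.cons (.branch 30 (.cons (.branch 32 (.cons (.branch 43 (.cons (.branch 51 (.cons (.branch 52 (.cons (.branch 58 (.cons (.branch 63 (.cons (.farkas [11, -18, 5, -18, 120, 48, 42, 102, -18]) .nil)) .nil)) .nil)) .nil)) .nil)) .nil)) .nil)) (.cons (.farkas [-1,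 -1, 1, 25, 25, -1, 12, -1, 38]) .nil))) (.cons (.farkas [1, -12, -1, 144, 144, -12, 66, -12, 222]) .nil))) .nil)) (.cons (.farkas [1, -12, -1, 144, 144, -12, 66, -12, 222]) .nil))) (.cons (.farkas [1, -12, -1, 144, 144, -12, 66, -12, 222]) .nil))) .nil)) .nil)) .nil)) .nil)) (.cons (.farkas [-6, -6, 6, -6, 98, 137, 306, 150, -6]) .nil))) .nil)) .nil)) .nil)) .nil)) .nil))),
    ([136, 112, 8, 3, 3, 3, 4, 3, 4], .farkas [-6, 7, 6, -6, -6, -6, -6, -6, -6]),
    ([120, 128, 8, 3, 3, 3, 4, 3, 4], .branch 14 (.cons (.branch 15 (.cons (.branch 16 (.cons (.branch 26 (.cons (.branch 31 (.cons (.branch 23 (.cons (.branch 18 (.cons (.branch 20 (.cons (.branch 51 (.cons (.farkas [9, -30, 17, 126, 204, 126, 126, 282, -30]) .nil)) (.cons (.farkas [7, -6, -6, -6, 66, -6, -6, -6, -6]) .nil))) .nil)) (.cons (.farkas [1, -12, -1, 144, 144, 222, 66, -12, -12]) .nil))) .nil)) .nil)) (.cons (.branch 9 (.cons (.branch 11 (.cons (.branch 8 (.cons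 (.branch 24 (.cons (.farkas [35, -108, 17, 48, 984, -108, 672, 828, 438]) .nil)) (.cons (.farkas [16, -36, 49, 198, 42, 588, 120, 120, -36]) .nil))) (.cons (.branch 20 (.cons (.branch 13 (.cons (.farkas [31, -60, 73, 564, 96, 252, 174, -60, 330]) .nil)) .nil)) .nil))) .nil)) (.cons (.farkas [-6, -6, 19, -6, -6, 228, 306, 150, 228]) .nil)))) .nil)) (.cons (.branch 11 (.cons (.branch 28 (.cons (.farkas [1, -12, -1, -12, 144, -12, 66, 144, 144]) (.cons (.farkas [7, -6, -6, -6, 66, -6, -6, -6, -6]) .nil))) (.cons (.farkas [16, -36, 62, 237, -36, 276, 120, 42, 237]) .nil))) .nil))),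
    ([136, 112, 8, 3, 3, 3, 4, 4, 3], .farkas [-6, 7, 6, -6, -6, -6, -6, -6, -6]),
    ([120, 128, 8, 3, 3, 3, 4, 4, 3], .branch 14 (.cons (.branch 15 (.cons (.branch 16 (.cons (.branch 18 (.cons (.branch 26 (.cons (.branch 31 (.cons (.branch 23 (.cons (.branch 24 (.cons (.branch 22 (.cons (.branch 13 (.cons (.branch 11 (.cons (.branch 12 (.cons (.branch 17 (.cons (.branch 28 (.cons (.branch 29 (.cons (.branch 30 (.cons (.branch 32 (.cons (.branch 34 (.cons (.branch 38 (.cons (.branch 43 (.cons (.branch 51 (.cons (.branch 52 (.cons (.branch 54 (.cons (.branch 58 (.cons (.branch 53 (.cons (.branch 63 (.cons (.farkas [29, -36, 23, -36, 120, 42, 42, 120, -36]) .nil)) .nil)) .nil)) .nil)) .nil)) .nil)) .nil)) .nil)) .nil)) .nil)) .nil)) (.cons (.farkas [1, -12, -1, 144, 144, -12, 66, -12, 222]) .nil))) (.cons (.farkas [31, -60, 73, 408, 96, 252, 174, -60, 330]) .nil))) .nil)) (.cons (.farkas [31, -60, 73, 408, 96, 252, 174, -60,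 330]) .nil))) (.cons (.farkas [31, -60, 73, 408, 96, 252, 174, -60, 330]) .nil))) (.cons (.farkas [-1, -6, 1, 54, 72, 78, 54, 42, -6]) .nil))) (.cons (.branch 20 (.cons (.branch 51 (.cons (.farkas [9, -30, 17, 126, 204, 126, 126, 282, -30]) .nil)) (.cons (.farkas [1, -12, -1, 144, 144, 222, 66, -12, -12]) .nil))) (.cons (.farkas [-3, -3, 3, -3, 49, 62, 36, 192, -3]) .nil)))) .nil)) .nil)) .nil)) .nil)) .nil)) (.cons (.branch 9 (.cons (.branch 8 (.cons (.branch 13 (.cons (.branch 18 (.cons (.branch 17 (.cons (.branch 22 (.cons (.branch 24 (.cons (.branch 26 (.cons (.branch 23 (.cons (.branch 20 (.cons (.branch 11 (.cons (.branch 12 (.cons (.branch 28 (.cons (.branch 29 (.cons (.branch 32 (.cons (.branch 43 (.cons (.branch 63 (.cons (.farkas [125, -252, 83, -18, 1776, -252, 762, 1542, 1074]) .nil)) .nil)) .nil)) (.cons (.farkas [-1, -1, 1, 25, 25, -1, 12, -1, 38]) .nil))) (.cons (.farkas [1, -12, -1, 144, 144, -12, 66, -12,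 222]) .nil))) (.cons (.farkas [1, -12, -1, 144, 144, -12, 66, -12, 222]) .nil))) (.cons (.farkas [1, -12, -1, 144, 144, -12, 66, -12, 222]) .nil))) .nil)) .nil)) .nil)) .nil)) (.cons (.farkas [-35, -48, 35, -48, 576, 888, 1824, 1044, 264]) .nil))) .nil)) .nil)) (.cons (.farkas [15, -24, 37, -24, -24, 210, 132, 288, -24]) .nil))) (.cons (.farkas [16, -36, 62, 198, -36, 432, 120, 42, 159]) .nil))) .nil)) .nil))) .nil)) (.cons (.branch 28 (.cons (.farkas [1, -12, -1, -12, 144, -12, 66, 144, 222]) (.cons (.farkas [1, -12, -1, 183, 144, 105, 66, -12, 105]) .nil))) .nil))),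
    ([136, 112, 8, 3, 3, 4, 4, 3, 3], .farkas [-6, 7, 6, -6, -6, -6, -6, -6, -6]),
    ([120, 128, 8, 3, 3, 4, 4, 3, 3], .branch 22 (.cons (.branch 16 (.cons (.branch 12 (.cons (.branch 14 (.cons (.branch 15 (.cons (.branch 18 (.cons (.branch 24 (.cons (.branch 26 (.cons (.branch 31 (.cons (.branch 23 (.cons (.branch 11 (.cons (.farkas [4, -9, -4, -9, 108, -9, 30, 69, 30]) (.cons (.farkas [1, -12, -1, 66, 144, -12, 66, 144, 66]) .nil))) .nil)) .nil)) .nil)) (.cons (.farkas [7, -6, -6, -6, 66, -6, -6, -6, -6]) .nil))) .nil)) (.cons (.farkas [7, -6, -6, -6, 66, -6, -6, -6, -6]) .nil))) (.cons (.farkas [1, -12, -1, 27, 144, -12, 66, 105, 144]) .nil))) (.cons (.farkas [1, -12, -1, 66, 144, -12, 66, 144, 66]) .nil))) (.cons (.farkas [1, -12, -1, 27, 144, -12, 66, 105, 144]) .nil))) (.cons (.farkas [2, -11, -2, 28, 132, -11, 54, 145, 41]) .nil))),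
    ([136, 112, 8, 3, 4, 2, 4, 2, 5], .farkas [-6, 7, 6, -6, -6, -6, -6, -6, -6]),
    ([120, 128, 8, 3, 4, 2, 4, 2, 5], .farkas [1, -12, 12, 66, 66, 144, 66, 144, -12]),
    ([136, 112, 8, 3, 4, 3, 3, 3, 4], .farkas [-6, 7, 6, -6, -6, -6, -6, -6, -6]),
    ([120, 128, 8, 3, 4, 3, 3, 3, 4], .branch 14 (.cons (.branch 16 (.cons (.branch 18 (.cons (.branch 23 (.cons (.branch 26 (.cons (.branch 31 (.cons (.branch 15 (.cons (.branch 24 (.cons (.branch 22 (.cons (.branch 20 (.cons (.branch 34 (.cons (.branch 40 (.cons (.branch 51 (.cons (.farkas [99, -174, 122, 372, 762, 216, 450, 1308, -174]) .nil)) (.cons (.farkas [-11, -24, 11, 288, 288, 600, 288, 132, -24]) .nil))) .nil)) (.cons (.branch 13 (.cons (.branch 12 (.cons (.farkas [-5, -18, 5, 216, 216, 372, 138, 60, -18]) (.cons (.farkas [31, -60, 73, 408, 96, 252, 174, -60, 330]) .nil))) .nil)) .nil))) (.cons (.farkas [-77, -168, 77, 1548, 2016, 2562, 1782, 2562, -168]) .nil)))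 .nil)) .nil)) .nil)) .nil)) .nil)) .nil)) (.cons (.branch 9 (.cons (.branch 11 (.cons (.branch 21 (.cons (.branch 28 (.cons (.branch 29 (.cons (.farkas [5, -60, 60, -60, 330, 330, 564, 720, 330]) .nil)) (.cons (.farkas [18, -21, 8, 96, 96, -21, 135, -21, -21]) .nil))) (.cons (.farkas [7, -6, -6, -6, 66, -6, -6, -6, -6]) .nil))) (.cons (.farkas [17, -48, 35, 420, 264, 108, 732, -48, 264]) .nil))) (.cons (.farkas [-1, -1, 1, -1, 38, -1, 12, 64, -1]) .nil))) .nil))) (.cons (.branch 28 (.cons (.branch 29 (.cons (.branch 30 (.cons (.branch 32 (.cons (.farkas [1, -12, 25, 27, -12, 144, 66, 105, 144]) .nil)) .nil)) (.cons (.farkas [1, -12, -1, 144, 144, -12, 300, -12, 144]) .nil))) (.cons (.branch 16 (.cons (.branch 13 (.cons (.farkas [31, -60, 73, 564, 96, 252, 174, -60, 330]) .nil)) .nil)) .nil))) .nil))),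
    ([136, 112, 8, 3, 4, 4, 3, 3, 3], .farkas [-6, 7, 6, -6, -6, -6, -6, -6, -6]),
    ([120, 128, 8, 3, 4, 4, 3, 3, 3], .branch 12 (.cons (.branch 14 (.cons (.branch 15 (.cons (.branch 16 (.cons (.branch 18 (.cons (.branch 22 (.cons (.branch 23 (.cons (.branch 24 (.cons (.branch 26 (.cons (.branch 31 (.cons (.branch 11 (.cons (.branch 17 (.cons (.branch 28 (.cons (.branch 29 (.cons (.branch 30 (.cons (.branch 32 (.cons (.branch 34 (.cons (.branch 38 (.cons (.branch 43 (.cons (.branch 51 (.cons (.branch 52 (.cons (.branch 54 (.cons (.branch 58 (.cons (.branch 53 (.cons (.branch 63 (.cons (.farkas [29, -36, 23, -36, 120, 42, 42, 120, -36]) .nil)) .nil)) .nil)) .nil)) .nil)) .nil)) .nil)) .nil)) .nil)) .nil)) .nil)) (.cons (.farkas [15, -24, 11, 132, 132, -24, 132, 54, 54]) .nil))) (.cons (.farkas [1, -12, -1, 66, 144, -12, 66, 144, 66]) .nil))) .nil)) (.cons (.branch 20 (.cons (.branch 13 (.cons (.farkas [31, -60, 73, 408,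 96, 252, 174, -60, 330]) (.cons (.farkas [-2, -2, 2, 11, 50, -2, 24, 102, -2]) .nil))) (.cons (.farkas [11, -15, -11, 63, 180, -15, 24, -15, 102]) .nil))) .nil))) .nil)) .nil)) (.cons (.farkas [-6, -6, 19, 85, -6, 150, 72, 111, 228]) .nil))) .nil)) (.cons (.branch 20 (.cons (.farkas [30, -48, 35, 30, 186, 30, 186, 420, -48]) (.cons (.branch 11 (.cons (.farkas [4, -9, -4, -9, 108, -9, 30, 69, 30]) .nil)) .nil))) .nil))) .nil)) (.cons (.branch 9 (.cons (.branch 11 (.cons (.branch 17 (.cons (.branch 21 (.cons (.branch 23 (.cons (.branch 28 (.cons (.farkas [1, -12, -1, -12, 144, -12, 66, 144, 144]) (.cons (.farkas [1, -12, -1, 144, 144, -12, 300, -12, 144]) .nil))) .nil)) .nil)) .nil)) (.cons (.farkas [1, -12, -1, 144, 144, -12, 300, -12, 144]) .nil))) .nil)) .nil))) (.cons (.farkas [-6, -6, 19, 85, -6, 150, 72, 111, 228]) .nil))) (.cons (.farkas [5, -60, -5, 96, 720, -60, 330, 642, 720]) .nil))) (.cons (.branch 14 (.cons (.branch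 16 (.cons (.branch 18 (.cons (.branch 20 (.cons (.branch 26 (.cons (.branch 13 (.cons (.branch 22 (.cons (.branch 8 (.cons (.farkas [31, -60, 21, 96, 408, -60, 330, 252, 174]) (.cons (.farkas [31, -60, 73, 408, 96, 252, 174, -60, 330]) .nil))) .nil)) (.cons (.farkas [-1, -1, 1, -1, 25, -1, 12, 64, -1]) .nil))) .nil)) (.cons (.farkas [1, -12, -1, 40, 144, -12, 92, 92, 144]) .nil))) .nil)) .nil)) .nil)) .nil))),
    ([136, 112, 8, 4, 2, 3, 2, 5, 4], .farkas [-6, 7, 6, -6, -6, -6, -6, -6, -6]),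
    ([120, 128, 8, 4, 2, 3, 2, 5, 4], .farkas [15, -24, -15, 28, 288, -24, 184, 80, -24]),
    ([136, 112, 8, 4, 2, 5, 4, 2, 3], .farkas [-5, -5, 5, 34, 138, -5, 60, 151, 47]),
    ([120, 128, 8, 4, 2, 5, 4, 2, 3], .farkas [-5, -5, 5, 34, 138, -5, 60, 151, 47]),
    ([136, 112, 8, 4, 3, 3, 3, 4, 3], .farkas [-6, 7, 6, -6, -6, -6, -6, -6, -6]),
    ([120, 128, 8, 4, 3, 3, 3, 4, 3], .branch 14 (.cons (.branch 15 (.cons (.branch 16 (.cons (.branch 18 (.cons (.branch 26 (.cons (.branch 31 (.cons (.branch 23 (.cons (.branch 24 (.cons (.branch 22 (.cons (.branch 13 (.cons (.branch 12 (.cons (.branch 11 (.cons (.branch 29 (.cons (.branch 51 (.cons (.farkas [17, -48, -17, -48, 576, 108, 264, 420, -48]) .nil)) (.cons (.farkas [1, -12, -1, 144, 144, -12, 144, -12, 144]) .nil))) (.cons (.farkas [31, -60, 73, 408, 96, 252, 174, -60, 330]) .nil))) (.cons (.branch 8 (.cons (.farkas [31, -60, 21, 96, 408, -60, 330, 252, 174]) (.cons (.farkas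 [31, -60, 73, 408, 96, 252, 174, -60, 330]) .nil))) .nil))) (.cons (.farkas [-11, -102, 11, 756, 1224, 912, 990, 912, -102]) .nil))) (.cons (.farkas [1, -12, -1, 66, 144, 66, 144, 66, -12]) .nil))) .nil)) .nil)) .nil)) .nil)) .nil)) (.cons (.branch 9 (.cons (.branch 11 (.cons (.branch 28 (.cons (.farkas [1, -12, -1, -12, 144, -12, 66, 144, 144]) (.cons (.farkas [1, -12, -1, 144, 144, -12, 300, -12, 144]) .nil))) (.cons (.farkas [1, -12, -1, 144, 144, -12, 300, -12, 144]) .nil))) .nil)) .nil))) .nil)) (.cons (.farkas [5, -60, -5, 96, 720, -60, 408, 564, 720]) .nil))),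
    ([136, 112, 8, 4, 3, 4, 3, 3, 3], .farkas [-6, 7, 6, -6, -6, -6, -6, -6, -6]),
    ([120, 128, 8, 4, 3, 4, 3, 3, 3], .farkas [5, -21, -5, 57, 252, -21, 96, 213, 96]),
    ([136, 112, 8, 4, 4, 3, 3, 3, 3], .farkas [-6, 7, 6, -6, -6, -6, -6, -6, -6]),
    ([120, 128, 8, 4, 4, 3, 3, 3, 3], .branch 9 (.cons (.branch 11 (.cons (.branch 12 (.cons (.branch 23 (.cons (.branch 17 (.cons (.branch 15 (.cons (.branch 24 (.cons (.branch 21 (.cons (.branch 14 (.cons (.branch 16 (.cons (.branch 18 (.cons (.branch 26 (.cons (.branch 31 (.cons (.branch 29 (.cons (.branch 30 (.cons (.branch 28 (.cons (.branch 51 (.cons (.farkas [189, -318, 188, -318, 1554, 774, 1125, 1866, -6]) .nil)) (.cons (.branch 34 (.cons (.branch 51 (.cons (.branch 52 (.cons (.branch 58 (.cons (.farkas [109, -216, 73, 18, 1500, 642, 876, 1266, -216]) .nil)) .nil)) .nil)) .nil)) .nil))) .nil)) (.cons (.branch 22 (.cons (.branch 13 (.cons (.branch 8 (.cons (.farkas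 [8, -18, 5, 21, 138, -18, 99, 99, 60]) (.cons (.farkas [31, -60, 73, 408, 96, 252, 174, -60, 330]) .nil))) (.cons (.farkas [-3, -3, 3, -3, 49, 62, 36, 140, -3]) .nil))) .nil)) .nil))) .nil)) .nil)) .nil)) (.cons (.branch 20 (.cons (.branch 8 (.cons (.farkas [9, -30, 17, -30, 204, 48, 360, 282, 48]) (.cons (.farkas [-6, -6, 19, -6, -6, 228, 72, 384, 228]) .nil))) .nil)) .nil))) (.cons (.farkas [5, -60, -5, 96, 720, -60, 330, 642, 642]) .nil))) (.cons (.farkas [-1, -1, 1, -1, 38, -1, 12, 25, 12]) .nil))) .nil)) .nil)) .nil)) .nil)) (.cons (.branch 15 (.cons (.branch 17 (.cons (.branch 20 (.cons (.branch 21 (.cons (.branch 23 (.cons (.branch 24 (.cons (.branch 14 (.cons (.branch 18 (.cons (.branch 28 (.cons (.branch 29 (.cons (.branch 30 (.cons (.branch 31 (.cons (.branch 38 (.cons (.branch 41 (.cons (.branch 51 (.cons (.branch 52 (.cons (.branch 54 (.cons (.branch 58 (.cons (.farkas [445, -582, 569, -582, 900, 900, 822, 3162,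 -348]) .nil)) .nil)) .nil)) .nil)) .nil)) .nil)) .nil)) .nil)) .nil)) .nil)) .nil)) .nil)) .nil)) .nil)) .nil)) (.cons (.farkas [5, -60, -5, 96, 720, -60, 408, 564, 720]) .nil))) .nil)) .nil)) .nil))) (.cons (.branch 13 (.cons (.branch 16 (.cons (.branch 14 (.cons (.branch 18 (.cons (.branch 22 (.cons (.branch 26 (.cons (.branch 8 (.cons (.branch 15 (.cons (.branch 24 (.cons (.branch 17 (.cons (.branch 20 (.cons (.branch 23 (.cons (.branch 31 (.cons (.branch 12 (.cons (.branch 21 (.cons (.branch 28 (.cons (.branch 29 (.cons (.branch 30 (.cons (.branch 34 (.cons (.branch 38 (.cons (.branch 32 (.cons (.branch 40 (.cons (.branch 41 (.cons (.branch 43 (.cons (.branch 51 (.cons (.branch 52 (.cons (.branch 53 (.cons (.branch 54 (.cons (.branch 58 (.cons (.branch 63 (.cons (.farkas [128, -132, 119, -132, 102, -54, 24, 258, -132]) .nil)) .nil)) .nil)) .nil)) .nil)) .nil)) .nil)) .nil)) (.cons (.farkas [-6, -6, 19, 33, -6, 189, 72,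 111, 228]) .nil))) .nil)) .nil)) .nil)) .nil)) .nil)) .nil)) .nil)) .nil)) .nil)) .nil)) (.cons (.farkas [1, -12, -1, 144, 144, -12, 66, -12, 222]) .nil))) .nil)) .nil)) .nil)) (.cons (.farkas [31, -60, 73, 408, 96, 252, 174, -60, 330]) .nil))) .nil)) (.cons (.farkas [8, -18, 31, 60, -18, 138, 60, 138, 60]) .nil))) .nil)) .nil)) (.cons (.farkas [1, -12, 25, 66, -12, 144, 144, 66, 144]) .nil))) (.cons (.farkas [-3, -3, 3, -3, 49, 62, 36, 179, -3]) .nil))) .nil))) (.cons (.farkas [-3, -3, 3, 23, 88, -3, 36, 62, 49]) .nil))),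
    ([136, 112, 8, 5, 4, 2, 3, 4, 2], .farkas [-6, 7, 6, -6, -6, -6, -6, -6, -6]),
    ([120, 128, 8, 5, 4, 2, 3, 4, 2], .branch 9 (.cons (.branch 11 (.cons (.branch 8 (.cons (.branch 12 (.cons (.branch 23 (.cons (.branch 17 (.cons (.branch 15 (.cons (.branch 24 (.cons (.branch 18 (.cons (.branch 21 (.cons (.branch 28 (.cons (.branch 29 (.cons (.branch 30 (.cons (.branch 32 (.cons (.farkas [-1, -12, 19, -12, 36, 144, 78, 168, 96]) .nil)) .nil)) (.cons (.branch 14 (.cons (.branch 16 (.cons (.branch 20 (.cons (.branch 26 (.cons (.branch 13 (.cons (.branch 22 (.cons (.farkas [31, -60, 73, 408, 96, 252, 174, -60, 330]) .nil)) (.cons (.farkas [-45, -45, 45, -45, 735, 826, 1047, 1125, -45]) .nil))) .nil)) .nil)) .nil)) .nil)) .nil))) (.cons (.branch 14 (.cons (.branch 16 (.cons (.branch 26 (.cons (.branch 31 (.cons (.branch 22 (.cons (.branch 20 (.cons (.branch 29 (.cons (.branch 30 (.cons (.branch 32 (.cons (.branch 34 (.cons (.branch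 38 (.cons (.branch 41 (.cons (.branch 43 (.cons (.branch 50 (.cons (.branch 51 (.cons (.branch 52 (.cons (.branch 53 (.cons (.branch 54 (.cons (.branch 58 (.cons (.branch 63 (.cons (.farkas [142, -144, 131, -144, 90, 12, 12, 168, -144]) .nil)) .nil)) .nil)) .nil)) .nil)) .nil)) (.cons (.farkas [1, -12, -1, 144, 144, 66, 183, -12, 27]) .nil))) .nil)) .nil)) .nil)) .nil)) .nil)) .nil)) .nil)) (.cons (.farkas [1, -12, -1, 144, 144, 222, 66, -12, -12]) .nil))) (.cons (.farkas [-11, -24, 11, 54, 288, 366, 444, 366, -24]) .nil))) .nil)) .nil)) (.cons (.farkas [-35, -48, 139, 264, -48, 1200, 498, 732, 1512]) .nil))) .nil)) .nil))) (.cons (.farkas [7, -6, -6, -6, 66, -6, -6, -6, -6]) .nil))) .nil)) .nil)) .nil)) .nil)) .nil)) (.cons (.branch 15 (.cons (.branch 17 (.cons (.branch 20 (.cons (.branch 18 (.cons (.branch 21 (.cons (.branch 23 (.cons (.branch 24 (.cons (.branch 14 (.cons (.branch 26 (.cons (.branch 28 (.cons (.branch 29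 (.cons (.branch 30 (.cons (.branch 31 (.cons (.branch 32 (.cons (.branch 38 (.cons (.branch 41 (.cons (.branch 43 (.cons (.branch 50 (.cons (.branch 51 (.cons (.branch 52 (.cons (.branch 54 (.cons (.branch 58 (.cons (.branch 53 (.cons (.branch 63 (.cons (.farkas [181, -222, 209, -222, 324, 168, 246, 714, 168]) .nil)) .nil)) .nil)) .nil)) .nil)) .nil)) .nil)) .nil)) .nil)) .nil)) .nil)) .nil)) .nil)) .nil)) (.cons (.farkas [17, -48, 35, 420, 264, 108, 732, -48, 264]) .nil))) .nil)) .nil)) .nil)) .nil)) .nil)) .nil)) .nil)) .nil)) .nil)) .nil))) (.cons (.farkas [16, -36, 62, 198, -36, 432, 120, 42, 159]) .nil))) (.cons (.farkas [8, -18, 31, 99, -18, 138, 60, 21, 138]) .nil))) (.cons (.farkas [-1, -1, 1, -1, 38, -1, 12, 25, 38]) .nil))),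
    ([136, 112, 20, 0, 3, 1, 9, 3, 3], .farkas [-3, -3, 3, 62, 49, 127, 36, 23, -3]),
    ([120, 128, 20, 0, 3, 1, 9, 3, 3], .farkas [1, -12, -1, 144, 144, 300, 66, -12, -12]),
    ([136, 112, 20, 1, 0, 3, 3, 9, 3], .farkas [-1, -1, 1, 25, 51, -1, 51, -1, -1]),
    ([120, 128, 20, 1, 0, 3, 3, 9, 3], .farkas [-1, -1, 1, 25, 51, -1, 51, -1, -1]),
    ([136, 112, 20, 3, 1, 0, 3, 3, 9], .farkas [-1, -1, 1, 25, 25, 51, 12, -1, -1]),
    ([120, 128, 20, 3, 1, 0, 3, 3, 9], .farkas [-1, -1, 1, 25, 25, 51, 12, -1, -1]),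
    ([136, 112, 20, 3, 3, 9, 1, 0, 3], .farkas [-1, -1, 1, -1, 38, -1, 12, 64, -1]),
    ([120, 128, 20, 3, 3, 9, 1, 0, 3], .farkas [-1, -1, 1, -1, 38, -1, 12, 64, -1]),
    ([136, 112, 20, 3, 9, 3, 0, 3, 1], .farkas [-6, 7, 6, -6, -6, -6, -6, -6, -6]),
    ([120, 128, 20, 3, 9, 3, 0, 3, 1], .farkas [1, -12, 25, 66, -12, 144, 144, 66, 144]),
    ([136, 112, 20, 9, 3, 3, 3, 1, 0], .farkas [-1, -1, 1, -1, 25, -1, 12, 38, 25]),
    ([120, 128, 20, 9, 3, 3, 3, 1, 0], .farkas [-1, -1, 1, -1, 25, -1, 12, 38, 25]),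
    ([136, 112, 32, 0, 1, 1, 8, 8, 0], .farkas [-2, -2, 2, 63, 50, 37, 24, -2, 37]),
    ([120, 128, 32, 0, 1, 1, 8, 8, 0], .farkas [-2, -2, 2, 63, 50, 37, 24, -2, 37]),
    ([136, 112, 32, 0, 8, 8, 0, 1, 1], .farkas [1, -12, -1, 144, 144, -12, 300, -12, 144]),
    ([120, 128, 32, 0, 8, 8, 0, 1, 1], .farkas [1, -12, -1, 144, 144, -12, 300, -12, 144]),
    ([136, 112, 32, 1, 0, 1, 0, 8, 8], .farkas [-1, -1, 1, 25, 51, -1, 51, -1, -1]),
    ([120, 128, 32, 1, 0, 1, 0, 8, 8], .farkas [-1, -1, 1, 25, 51, -1, 51, -1, -1]),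
    ([136, 112, 32, 1, 1, 0, 8, 0, 8], .farkas [-3, -3, 3, -3, 49, 62, 36, 192, -3]),
    ([120, 128, 32, 1, 1, 0, 8, 0, 8], .farkas [-3, -3, 3, -3, 49, 62, 36, 192, -3]),
    ([136, 112, 32, 8, 0, 8, 1, 0, 1], .farkas [-1, -1, 1, -1, 38, -1, 12, 64, -1]),
    ([120, 128, 32, 8, 0, 8, 1, 0, 1], .farkas [-1, -1, 1, -1, 38, -1, 12, 64, -1]),
    ([136, 112, 32, 8, 8, 0, 1, 1, 0], .farkas [-6, -6, 19, -6, -6, 228, 72, 384, 228]),
    ([120, 128, 32, 8, 8, 0, 1, 1, 0], .farkas [-6, -6, 19, -6, -6, 228, 72, 384, 228])]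

/-- The possible counts of an element of order seventy-three. -/
def targets73 : List (List ℕ) :=
  [[8, 2, 3, 4, 5, 4, 2],
    [8, 2, 5, 4, 2, 3, 4],
    [8, 3, 3, 3, 3, 4, 4],
    [8, 3, 3, 3, 4, 3, 4],
    [8, 3, 3, 3, 4, 4, 3],
    [8, 3, 3, 4, 4, 3, 3],
    [8, 3, 4, 2, 4, 2, 5],
    [8, 3, 4, 3, 3, 3, 4],
    [8, 3, 4, 4, 3, 3, 3],
    [8, 4, 2, 3, 2, 5, 4],
    [8, 4, 2, 5, 4, 2, 3],
    [8, 4, 3, 3, 3, 4, 3],
    [8, 4, 3, 4, 3, 3, 3],
    [8, 4, 4, 3, 3, 3, 3],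
    [8, 5, 4, 2, 3, 4, 2],
    [20, 0, 3, 1, 9, 3, 3],
    [20, 1, 0, 3, 3, 9, 3],
    [20, 3, 1, 0, 3, 3, 9],
    [20, 3, 3, 9, 1, 0, 3],
    [20, 3, 9, 3, 0, 3, 1],
    [20, 9, 3, 3, 3, 1, 0],
    [32, 0, 1, 1, 8, 8, 0],
    [32, 0, 8, 8, 0, 1, 1],
    [32, 1, 0, 1, 0, 8, 8],
    [32, 1, 1, 0, 8, 0, 8],
    [32, 8, 0, 8, 1, 0, 1],
    [32, 8, 8, 0, 1, 1, 0]]

/-- All residue counts of a point of the torus on the roots, eight bits each. -/
def tally (u v : ℕ) : ℕ :=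
  ((rexp1.zip rexp2).map fun p => 256 ^ ((u * p.1 + v * p.2) % 73)).sum

/-- The counts of the classes of a multiple of a point. -/
def scaledCounts (T μ : ℕ) : List ℕ :=
  (List.range 7).map fun k => T / 256 ^ (μ * reps73.getD k 0 % 73) % 256 + if k = 0 then 8 else 0

end CfsgLib.E8PSLThree56
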